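import Groth.Agent.EtMV.NormalIrr
import Mathlib.AlgebraicGeometry.SpreadingOut
import Mathlib.AlgebraicGeometry.FunctionField

/-!
# Extending generic points of separated étale schemes over normal integral schemes
-/

universe u

open CategoryTheory CategoryTheory.Limits AlgebraicGeometry TopologicalSpace

set_option backward.isDefEq.respectTransparency false
set_option backward.isDefEq.respectTransparency.types false

noncomputable section

namespace Groth.Agent.EtTorsGen

/-- A rational point over the generic point of a dense open is dominant. -/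
theorem isDominant_of_openImmersion {W S : Scheme.{u}} [IsIntegral S] (j : W ⟶ S) [IsOpenImmersion j]
    (l : Spec (S.residueField (genericPoint S)) ⟶ W)
    (hl : l ≫ j = S.fromSpecResidueField (genericPoint S)) : IsDominant l := by
  refine ⟨fun w => mem_closure_iff.2 fun O hO hw => ?_⟩
  obtain ⟨z⟩ : Nonempty (Spec (S.residueField (genericPoint S))) := inferInstance
  have hg : genericPoint S ∈ j '' O :=
    (genericPoint_specializes (j w)).mem_open (j.isOpenEmbedding.isOpenMap O hO) ⟨w, hw, rfl⟩
  obtain ⟨w', hw', e⟩ := hg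
  have e2 : j (l z) = genericPoint S := by
    rw [← Scheme.Hom.comp_apply, hl, Scheme.fromSpecResidueField_apply]
  exact ⟨w', hw', z, j.isOpenEmbedding.injective (e2.trans e.symm)⟩

variable {S : Scheme.{u}} [IsIntegral S] {E : Scheme.{u}} (g : E ⟶ S)
variable (x : Spec (S.residueField (genericPoint S)) ⟶ E)

/-- Near every specialisation of a rational generic point the scheme is locally isomorphic to the base. -/
theorem exists_local_section [Etale g] (hN : ∀ s : S, IsIntegrallyClosed (S.presheaf.stalk s))
    (hx : x ≫ g = S.fromSpecResidueField (genericPoint S))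
    {z : E} (hz : x (IsLocalRing.closedPoint (S.residueField (genericPoint S))) ⤳ z) :
    ∃ (U : S.Opens) (_ : g z ∈ U) (σ : U.toScheme ⟶ E),
      σ ≫ g = U.ι ∧ ∃ l : Spec (S.residueField (genericPoint S)) ⟶ U.toScheme,
        l ≫ U.ι = S.fromSpecResidueField (genericPoint S) ∧ l ≫ σ = x := by
  let ψ := E.presheaf.stalkSpecializes hz ≫ Scheme.stalkClosedPointTo x
  have hψ : Spec.map ψ ≫ E.fromSpecStalk z = x := by
    show Spec.map (E.presheaf.stalkSpecializes hz ≫ Scheme.stalkClosedPointTo x) ≫ E.fromSpecStalk z = x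
    rw [Spec.map_comp, Category.assoc, Scheme.SpecMap_stalkSpecializes_fromSpecStalk,
      Scheme.Spec_stalkClosedPointTo_fromSpecStalk]
  have hsp : genericPoint S ⤳ g z := genericPoint_specializes _
  let ι := S.presheaf.stalkSpecializes hsp ≫ S.residue (genericPoint S)
  have hι : Spec.map ι ≫ S.fromSpecStalk (g z) = S.fromSpecResidueField (genericPoint S) := by
    show Spec.map (S.presheaf.stalkSpecializes hsp ≫ S.residue (genericPoint S)) ≫ S.fromSpecStalk (g z) = _
    rw [Spec.map_comp, Category.assoc, Scheme.SpecMap_stalkSpecializes_fromSpecStalk]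
    rfl
  let φ := g.stalkMap z
  have hφψ : φ ≫ ψ = ι := by
    apply Spec.map_injective
    rw [← cancel_mono (S.fromSpecStalk (g z)), hι, Spec.map_comp, Category.assoc,
      Scheme.SpecMap_stalkMap_fromSpecStalk, reassoc_of% hψ, hx]
  obtain ⟨hdom, -⟩ : IsDomain (E.presheaf.stalk z) ∧ IsIntegrallyClosed (E.presheaf.stalk z) :=
    (EtaleLocalProps.isNormal_stalk_iff g z).2 ⟨inferInstance, hN _⟩
  -- the point of `Spec 𝒪_z` given by `ψ` is the generic point
  have hker : RingHom.ker ψ.hom = ⊥ := by
    let P : Spec (E.presheaf.stalk z) := Spec.map ψ (IsLocalRing.closedPoint (S.residueField (genericPoint S)))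
    have hP : E.fromSpecStalk z P = x (IsLocalRing.closedPoint (S.residueField (genericPoint S))) := by
      show E.fromSpecStalk z (Spec.map ψ _) = _
      rw [← Scheme.Hom.comp_apply, hψ]
    let o : Spec (E.presheaf.stalk z) := ⟨⊥, Ideal.isPrime_bot⟩
    have hoP : o ⤳ P := (PrimeSpectrum.le_iff_specializes o P).1 bot_le
    have h1 : E.fromSpecStalk z o ⤳ E.fromSpecStalk z P := hoP.map (E.fromSpecStalk z).continuous
    have h2 : g (E.fromSpecStalk z P) = genericPoint S := by
      rw [hP, ← Scheme.Hom.comp_apply, hx, Scheme.fromSpecResidueField_apply]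
    have h3 : g (E.fromSpecStalk z o) = genericPoint S := by
      refine (Specializes.antisymm ?_ (genericPoint_specializes _)).eq
      rw [← h2]
      exact h1.map g.continuous
    have h4 : E.fromSpecStalk z o = E.fromSpecStalk z P :=
      EtMV.eq_of_specializes_of_eq g h1 (h3.trans h2.symm)
    have h5 : o = P := (E.fromSpecStalk z).isEmbedding.injective h4
    have h6 := congrArg PrimeSpectrum.asIdeal h5
    have h7 : P.asIdeal = RingHom.ker ψ.hom := by
      show Ideal.comap ψ.hom (IsLocalRing.maximalIdeal (S.residueField (genericPoint S))) = _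
      rw [IsLocalRing.maximalIdeal_eq_bot, RingHom.ker_eq_comap_bot]
    rw [← h7, ← h6]
  haveI : IsIso φ := by
    refine (ConcreteCategory.isIso_iff_bijective φ).2 ?_
    letI : Algebra (S.presheaf.stalk (g z)) (E.presheaf.stalk z) := φ.hom.toAlgebra
    haveI : Module.FaithfullyFlat (S.presheaf.stalk (g z)) (E.presheaf.stalk z) :=
      EtaleLocalProps.faithfullyFlat_stalkMap g z
    have hinj : Function.Injective φ.hom := FaithfulSMul.algebraMap_injective _ _
    refine ⟨hinj, fun c => ?_⟩
    have hψinj : Function.Injective ψ.hom := (RingHom.injective_iff_ker_eq_bot _).2 hker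
    have hres : Function.Bijective (S.residue (genericPoint S)).hom :=
      ⟨RingHom.injective (R := S.functionField) _, S.residue_surjective (genericPoint S)⟩
    obtain ⟨k, hk⟩ := hres.2 (ψ.hom c)
    obtain ⟨⟨a, b⟩, hab⟩ :=
      IsLocalization.surj (nonZeroDivisors (S.presheaf.stalk (g z))) (S := S.functionField) k
    have hι' : ∀ r, ψ.hom (φ.hom r) =
        (S.residue (genericPoint S)).hom (algebraMap (S.presheaf.stalk (g z)) S.functionField r) :=
      fun r => congrArg (fun m => m.hom r) hφψ
    have hc : c * φ.hom b = φ.hom a := by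
      apply hψinj
      rw [map_mul, hι', hι', ← hk, ← map_mul]
      exact congrArg _ hab
    have hmem : (a : S.presheaf.stalk (g z)) ∈ Ideal.span {(b : S.presheaf.stalk (g z))} := by
      rw [← Ideal.comap_map_eq_self_of_faithfullyFlat (B := E.presheaf.stalk z)
        (Ideal.span {(b : S.presheaf.stalk (g z))}), Ideal.mem_comap, Ideal.map_span, Set.image_singleton]
      exact Ideal.mem_span_singleton'.2 ⟨c, hc⟩
    obtain ⟨r, hr⟩ := Ideal.mem_span_singleton'.1 hmem
    refine ⟨r, ?_⟩
    have hb : φ.hom (b : S.presheaf.stalk (g z)) ≠ 0 := fun h =>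
      nonZeroDivisors.ne_zero b.2 (hinj (h.trans (map_zero _).symm))
    apply mul_right_cancel₀ hb
    rw [hc, ← hr]
    exact (map_mul _ _ _).symm
  have hm : (Spec.map (inv φ) ≫ E.fromSpecStalk z) ≫ g = S.fromSpecStalk (g z) ≫ 𝟙 S := by
    rw [Category.assoc, ← Scheme.SpecMap_stalkMap_fromSpecStalk, ← Category.assoc, ← Spec.map_comp,
      IsIso.hom_inv_id, Spec.map_id, Category.id_comp, Category.comp_id]
  obtain ⟨U, hU, σ, hσ, hσg⟩ := spread_out_of_isGermInjective' (𝟙 S) g
    (Spec.map (inv φ) ≫ E.fromSpecStalk z) hm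
  rw [Category.comp_id] at hσg
  refine ⟨U, hU, σ, hσg, Spec.map ι ≫ U.fromSpecStalkOfMem (g z) hU, ?_, ?_⟩
  · rw [Category.assoc, Scheme.Opens.fromSpecStalkOfMem_ι, hι]
  · rw [Category.assoc, ← hσ, ← Category.assoc, ← Spec.map_comp, ← hφψ, IsIso.inv_hom_id_assoc, hψ]

/-- Two sections of a separated scheme over an integral scheme agreeing at the generic point are equal. -/
theorem section_ext [IsSeparated g] {σ₁ σ₂ : S ⟶ E} (h₁ : σ₁ ≫ g = 𝟙 S) (h₂ : σ₂ ≫ g = 𝟙 S)
    (h : S.fromSpecResidueField (genericPoint S) ≫ σ₁ = S.fromSpecResidueField (genericPoint S) ≫ σ₂) :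
    σ₁ = σ₂ := by
  haveI := isDominant_of_openImmersion (𝟙 S) (S.fromSpecResidueField (genericPoint S)) (Category.comp_id _)
  exact ext_of_isDominant_of_isSeparated g (h₁.trans h₂.symm) _ h

/-- A rational generic point of a separated etale scheme over a normal integral scheme all of whose
specialisation maps lift extends to a section. -/
theorem exists_section [Etale g] [IsSeparated g] (hN : ∀ s : S, IsIntegrallyClosed (S.presheaf.stalk s))
    (hx : x ≫ g = S.fromSpecResidueField (genericPoint S))
    (hlift : ∀ (e : E) (s : S), g e = genericPoint S → ∃ z : E, e ⤳ z ∧ g z = s) :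
    ∃ σ : S ⟶ E, σ ≫ g = 𝟙 S ∧ S.fromSpecResidueField (genericPoint S) ≫ σ = x := by
  have he : g (x (IsLocalRing.closedPoint (S.residueField (genericPoint S)))) = genericPoint S := by
    rw [← Scheme.Hom.comp_apply, hx, Scheme.fromSpecResidueField_apply]
  choose z hz hgz using fun s => hlift _ s he
  choose U hU σ hσ l hl hlσ using fun s => exists_local_section g x hN hx (hz s)
  have hcov : IsOpenCover U := .mk (top_le_iff.mp fun s _ =>
    TopologicalSpace.Opens.mem_iSup.2 ⟨s, by have h := hU s; rwa [hgz s] at h⟩)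
  let C := S.openCoverOfIsOpenCover U hcov
  have hglue : ∀ i j : C.I₀, pullback.fst (C.f i) (C.f j) ≫ σ i = pullback.snd (C.f i) (C.f j) ≫ σ j := by
    intro i j
    haveI : IsReduced (pullback (C.f i) (C.f j)) :=
      isReduced_of_isOpenImmersion (pullback.fst (C.f i) (C.f j) ≫ C.f i)
    have e : l i ≫ C.f i = l j ≫ C.f j := (hl i).trans (hl j).symm
    haveI := isDominant_of_openImmersion (pullback.fst (C.f i) (C.f j) ≫ C.f i)
      (pullback.lift (l i) (l j) e) (by rw [pullback.lift_fst_assoc]; exact hl i)
    refine ext_of_isDominant_of_isSeparated g ?_ (pullback.lift (l i) (l j) e) ?_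
    · rw [Category.assoc, Category.assoc, hσ i, hσ j]
      exact pullback.condition
    · rw [pullback.lift_fst_assoc, pullback.lift_snd_assoc, hlσ i, hlσ j]
  let σ₀ := C.glueMorphisms σ hglue
  refine ⟨σ₀, ?_, ?_⟩
  · refine C.hom_ext _ _ fun i => ?_
    rw [Scheme.Cover.ι_glueMorphisms_assoc, hσ i, Category.comp_id]
    rfl
  · obtain ⟨i⟩ : Nonempty S := inferInstance
    rw [← hl i, Category.assoc]
    show l i ≫ C.f i ≫ σ₀ = x
    rw [Scheme.Cover.ι_glueMorphisms, hlσ i]

end Groth.Agent.EtTorsGen
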