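import Groth.Agent.EtTorsGen.Extend
import Groth.Agent.Torsor.Descent
import Groth.Agent.FpqcDescent.Sep
import Groth.Agent.ClosedRep.Over
import Groth.Agent.S6011
import Groth.Prelude.Def_Pi1

/-!
# Torsors under étale groups over fields: specialisations lift
-/

universe u

open CategoryTheory CategoryTheory.Limits AlgebraicGeometry MonoidalCategory CartesianMonoidalCategory MonObj

set_option backward.isDefEq.respectTransparency false
set_option backward.isDefEq.respectTransparency.types false

noncomputable section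

namespace Groth.Agent.EtTorsGen

variable {k : Type u} [Field k]

/-- After any base change, an étale scheme over a field maps specialisations onto specialisations. -/
theorem universally_specializingMap {G : Scheme.{u}} (h : G ⟶ Spec (CommRingCat.of k)) [Etale h] :
    (topologically @SpecializingMap).universally h := by
  refine MorphismProperty.universally_mk' _ _ fun {T} q _ => ?_
  intro z t ht
  let c := pullback.snd q h z
  have hcl : IsClosed ({c} : Set G) := by
    rw [← closure_subset_iff_isClosed]
    intro y hy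
    exact (EtMV.eq_of_specializes_of_eq h (specializes_iff_mem_closure.2 hy) (Subsingleton.elim _ _)).symm
  haveI : IsClosedImmersion (G.fromSpecResidueField c) := isClosed_singleton_iff_isClosedImmersion.1 hcl
  haveI : IsFinite (G.fromSpecResidueField c ≫ h) :=
    isFinite_iff_locallyOfFiniteType_of_jacobsonSpace.2 inferInstance
  let i := G.fromSpecResidueField c
  let j : pullback (pullback.snd q h) i ⟶ T := pullback.fst (pullback.snd q h) i ≫ pullback.fst q h
  haveI : IsFinite j := by
    show IsFinite (pullback.fst (pullback.snd q h) i ≫ pullback.fst q h)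
    rw [← pullbackLeftPullbackSndIso_hom_fst q h i]
    infer_instance
  obtain ⟨p⟩ : Nonempty (Spec (G.residueField c)) := inferInstance
  obtain ⟨w, hw, -⟩ := Scheme.Pullback.exists_preimage_pullback (f := pullback.snd q h) (g := i) z p
    (Scheme.fromSpecResidueField_apply c p).symm
  have hjw : j w = pullback.fst q h z := by
    show (pullback.fst (pullback.snd q h) i ≫ pullback.fst q h) w = _
    rw [Scheme.Hom.comp_apply, hw]
  obtain ⟨w', hw', hjw'⟩ := j.isClosedMap.specializingMap (a := w) (b := t) (hjw ▸ ht)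
  refine ⟨pullback.fst (pullback.snd q h) i w', ?_, ?_⟩
  · rw [← hw]
    exact hw'.map (pullback.fst (pullback.snd q h) i).continuous
  · rw [← hjw']
    rfl

variable (G : Over (Spec (CommRingCat.of k))) [GrpObj G] [Etale G.hom]
  {S : Scheme.{u}} (s : S ⟶ Spec (CommRingCat.of k)) (E : NonAbH1.TorsorSch (Red.bc s G) Scheme.fppfPrecoverage)

theorem isTorsor_fpqc : NonAbH1.IsTorsorFor Scheme.fpqcPrecoverage E.act := by
  obtain ⟨h, R, hR, hs⟩ := E.isTorsor
  exact ⟨h, R, Scheme.fppfPrecoverage_le_fpqcPrecoverage _ hR, hs⟩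

theorem etale_torsor : Etale E.X.hom :=
  Torsor.of_isTorsorFor (isTorsor_fpqc G s E) @Etale
    (MorphismProperty.pullback_snd (P := @Etale) G.hom s ‹_›)

theorem isSeparated_torsor : IsSeparated E.X.hom :=
  Torsor.of_isTorsorFor (isTorsor_fpqc G s E) @IsSeparated
    (MorphismProperty.pullback_snd (P := @IsSeparated) G.hom s (ClosedRep.isSeparated_of_field k G))

/-- Specialisations lift to a torsor from the generalisations of its points. -/
theorem exists_specializes (e : E.X.left) (t : S) (ht : E.X.hom e ⤳ t) :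
    ∃ z : E.X.left, e ⤳ z ∧ E.X.hom z = t := by
  obtain ⟨hiso, R, hR, hsec⟩ := E.isTorsor
  obtain ⟨I, Z, f, rfl⟩ := R.exists_eq_ofArrows
  obtain ⟨hcov, hprop⟩ := (Scheme.ofArrows_mem_precoverage_iff (@Flat ⊓ @LocallyOfFinitePresentation)).1 hR
  obtain ⟨i, t', ht'⟩ := hcov t
  haveI : Flat (f i) := (hprop i).1
  obtain ⟨o, ho, hfo⟩ := Flat.generalizingMap (f i) (a := t') (b := E.X.hom e) (ht' ▸ ht)
  obtain ⟨σ, hσ⟩ := hsec (f i) ⟨i⟩
  -- the pullback of the torsor along the covering map is the pullback of the group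
  have hP : (topologically @SpecializingMap).universally (pullback.snd E.X.hom (f i)) := by
    haveI : (topologically @SpecializingMap).universally.IsStableUnderBaseChange :=
      MorphismProperty.universally_isStableUnderBaseChange _
    have h1 : (topologically @SpecializingMap).universally (pullback.snd (Red.bc s G).hom E.X.hom) :=
      MorphismProperty.pullback_snd _ _
        (MorphismProperty.pullback_snd G.hom s (universally_specializingMap G.hom))
    have : IsIso (lift E.act.act (snd (Red.bc s G) E.X)) := hiso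
    let sh := (lift E.act.act (snd (Red.bc s G) E.X)).left
    have : IsIso sh := Functor.map_isIso (Over.forget S) (lift E.act.act (snd (Red.bc s G) E.X))
    have he : sh ≫ pullback.snd E.X.hom E.X.hom = pullback.snd (Red.bc s G).hom E.X.hom :=
      congrArg CommaMorphism.left (lift_snd E.act.act (snd (Red.bc s G) E.X))
    rw [← he, MorphismProperty.cancel_left_of_respectsIso (topologically @SpecializingMap).universally] at h1
    rw [← hσ]
    refine (MorphismProperty.cancel_left_of_respectsIso _
      (pullbackLeftPullbackSndIso E.X.hom E.X.hom σ).hom _).mp ?_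
    rw [pullbackLeftPullbackSndIso_hom_snd]
    exact MorphismProperty.pullback_snd _ _ h1
  have hsp : SpecializingMap (pullback.snd E.X.hom (f i)) :=
    MorphismProperty.universally_le _ _ hP
  obtain ⟨w, hw1, hw2⟩ := Scheme.Pullback.exists_preimage_pullback (f := E.X.hom) (g := f i) e o hfo.symm
  obtain ⟨w', hw', hw2'⟩ := hsp (a := w) (b := t') (hw2 ▸ ho)
  refine ⟨pullback.fst E.X.hom (f i) w', hw1 ▸ hw'.map (pullback.fst E.X.hom (f i)).continuous, ?_⟩
  rw [← Scheme.Hom.comp_apply, pullback.condition, Scheme.Hom.comp_apply, hw2', ht']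

variable [IsIntegral S] (hS : Pi1.IsNormalScheme S)

include hS in
/-- Rational generic points of a torsor under an étale group extend uniquely to sections. -/
theorem sections_bijective :
    (∀ σ₁ σ₂ : S ⟶ E.X.left, σ₁ ≫ E.X.hom = 𝟙 S → σ₂ ≫ E.X.hom = 𝟙 S →
        S.fromSpecResidueField (genericPoint S) ≫ σ₁ = S.fromSpecResidueField (genericPoint S) ≫ σ₂ → σ₁ = σ₂) ∧
    (∀ x : Spec (S.residueField (genericPoint S)) ⟶ E.X.left,
        x ≫ E.X.hom = S.fromSpecResidueField (genericPoint S) →
        ∃ σ : S ⟶ E.X.left, σ ≫ E.X.hom = 𝟙 S ∧ S.fromSpecResidueField (genericPoint S) ≫ σ = x) := by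
  haveI := etale_torsor G s E
  haveI := isSeparated_torsor G s E
  exact ⟨fun σ₁ σ₂ h1 h2 h => section_ext E.X.hom h1 h2 h,
    fun x hx => exists_section E.X.hom x (fun t => (hS t).2) hx
      fun e t he => exists_specializes G s E e t (he ▸ genericPoint_specializes t)⟩

include hS in
/-- A torsor which is trivial at the generic point is trivial. -/
theorem cl_eq_one (c : NonAbH1.H1Sch (Red.bc s G) Scheme.fppfPrecoverage)
    (hc : NonAbH1.H1Sch.bcMap (S.fromSpecResidueField (genericPoint S)) (Red.bc s G) Scheme.fppfPrecoverage c = 1) :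
    c = 1 := by
  obtain ⟨P, rfl⟩ := Quot.exists_rep c
  let q := S.fromSpecResidueField (genericPoint S)
  let H : NonAbH1.H1Sch (Red.bc q (Red.bc s G)) Scheme.fppfPrecoverage → Prop :=
    Quot.lift (fun Q => NonAbH1.HasSectionOver Q.X (𝟙 _)) fun Q Q' ⟨e⟩ => propext
      ⟨fun ⟨σ, hσ⟩ => ⟨σ ≫ e.iso.hom.left, by rw [Category.assoc, Over.w e.iso.hom]; exact hσ⟩,
        fun ⟨σ, hσ⟩ => ⟨σ ≫ e.iso.inv.left, by rw [Category.assoc, Over.w e.iso.inv]; exact hσ⟩⟩
  have h1 : H (NonAbH1.H1Sch.bcMap q (Red.bc s G) Scheme.fppfPrecoverage (Quot.mk _ P)) := by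
    rw [hc]
    exact ⟨η[Red.bc q (Red.bc s G)].left, Over.w η[Red.bc q (Red.bc s G)]⟩
  obtain ⟨σ', hσ'⟩ : NonAbH1.HasSectionOver (Red.bc q P.X) (𝟙 _) := h1
  obtain ⟨σ, hσ, -⟩ := (sections_bijective G s P hS).2 (σ' ≫ pullback.fst P.X.hom q) (by
    rw [Category.assoc, pullback.condition, ← Category.assoc]
    exact (congrArg (· ≫ q) hσ').trans (Category.id_comp q))
  obtain ⟨e⟩ := (S6011.main (Red.bc s G) P.X P.act).2 ⟨P.isTorsor.1, σ, hσ⟩
  exact (Quot.sound ⟨e⟩).symm

end Groth.Agent.EtTorsGen
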